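import Groth.Agent.ResGerbe.QDM.Section
import Groth.Agent.AlgStBasic.StCover
import Groth.Agent.AlgStBasic.StCompact
import Groth.Agent.AlgStBasic.LocQApps
import Groth.Agent.AlgSp3.HasAtMor
import Groth.Agent.FibreDim.BaseChange
import Groth.Agent.ResGerbe.OnePoint

/-!
# The fibre dimension of charts of `- ×_𝒳 W` depends only on the point of `W`
-/

set_option autoImplicit false
set_option backward.isDefEq.respectTransparency false
set_option backward.isDefEq.respectTransparency.types false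

universe u

open CategoryTheory CategoryTheory.Limits AlgebraicGeometry
open Groth.StkBase Groth.AlgStBasic

noncomputable section

namespace Groth.ResGerbe.QDM

variable {S : Scheme.{u}} {𝒳 : AlgSt.Cat S}

theorem isStableBaseChange_etale : StableBaseChange (AlgSp.LocP (S := S) @Etale) := stableBaseChange_locP

theorem map_overMap_ofChart {T T' : Over S} (h : T' ⟶ T) (t : ↥T'.left) :
    AlgSt.Points.map (AlgSt.overMap h) (AlgSt.Points.ofChart (BasedFunctor.id _) t) =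
      AlgSt.Points.ofChart (BasedFunctor.id _) (h.left t) :=
  ofChart_overMap h (BasedFunctor.id _) t

theorem eq_of_overMap_iso {U V : Over S} {a b : U ⟶ V}
    (h : Nonempty (AlgSt.overMap a ≅ AlgSt.overMap b)) : a = b := by
  obtain ⟨ψ, hψ⟩ := (nonempty_overIso_iff (isFibGrpd_overCat V) _ _).1 h
  obtain ⟨_, e⟩ := hψ
  have h1 : ψ.left = 𝟙 U := e
  have := Over.w ψ
  rw [h1] at this
  simpa [idObj, AlgSt.overMap] using this.symm

/-- A pullback square gives the fibre product of slices with both projections. -/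
theorem exists_equiv_fp_overMap' {W₀ V₀ W V : Over S} {k₁ : W₀ ⟶ V₀} {k₂ : W₀ ⟶ W} {j : V₀ ⟶ V}
    {d : W ⟶ V} (sq : IsPullback k₁ k₂ j d) :
    ∃ Λ : FibCat.overCat W₀ ⥤ᵇ FibCat.fp (AlgSt.overMap j) (AlgSt.overMap d),
      FibCat.IsEquivOver Λ ∧ BasedFunctor.comp Λ (FibCat.fpFst _ _) = AlgSt.overMap k₁ ∧
        BasedFunctor.comp Λ (FibCat.fpSnd _ _) = AlgSt.overMap k₂ := by
  have hw : ∀ g : (FibCat.overCat W₀).obj, (g.hom ≫ k₁) ≫ j = (g.hom ≫ k₂) ≫ d := fun g => by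
    rw [Category.assoc, Category.assoc, sq.w]
  let γ : BasedFunctor.comp (AlgSt.overMap k₁) (AlgSt.overMap j) ≅
      BasedFunctor.comp (AlgSt.overMap k₂) (AlgSt.overMap d : FibCat.overCat W ⥤ᵇ _) :=
    isoMk (fun g => Over.isoMk (Iso.refl g.left)
        (by show 𝟙 g.left ≫ (g.hom ≫ k₂) ≫ d = (g.hom ≫ k₁) ≫ j; rw [Category.id_comp, hw]))
      (fun φ => Over.OverMorphism.ext ((Category.comp_id _).trans (Category.id_comp _).symm))
      (fun g => ⟨rfl, rfl⟩)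
  refine ⟨FibCat.fpLift (AlgSt.overMap k₁) (AlgSt.overMap k₂) γ, ?_, rfl, rfl⟩
  refine isEquivOver_of_fullyFaithful _ ⟨fun {g g'} φ => ?_⟩ ⟨fun {g g'} a b e => ?_⟩ (fun p => ?_)
  · have hs : φ.hom.snd.left = φ.hom.fst.left := by
      have := fp_map_snd φ
      simp at this; exact this
    have h₁ : φ.hom.fst.left ≫ g'.hom ≫ k₁ = g.hom ≫ k₁ := Over.w φ.hom.fst
    have h₂ : φ.hom.fst.left ≫ g'.hom ≫ k₂ = g.hom ≫ k₂ := hs ▸ Over.w φ.hom.snd
    exact ⟨Over.homMk φ.hom.fst.left (sq.hom_ext (by rw [Category.assoc, h₁]) (by rw [Category.assoc, h₂])),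
      fp_hom_ext (Over.OverMorphism.ext rfl) (Over.OverMorphism.ext hs.symm)⟩
  · exact Over.OverMorphism.ext (congrArg (fun t => t.hom.fst.left) e)
  · have hb : p.obj.snd.left = p.obj.fst.left := fp_p_snd p
    let i := p.obj.iso
    have hi : i.hom.left = eqToHom hb.symm := (fp_isVert p).map_eq
    have hwi : i.hom.left ≫ p.obj.snd.hom ≫ d = p.obj.fst.hom ≫ j := Over.w i.hom
    let l := sq.lift p.obj.fst.hom (eqToHom hb.symm ≫ p.obj.snd.hom)
      (by rw [← hwi, hi, Category.assoc])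
    refine ⟨Over.mk l, fpObjIso (Over.isoMk (Iso.refl _) ?_) (Over.isoMk (eqToIso hb.symm) ?_) ?_, rfl, rfl⟩
    · show 𝟙 _ ≫ p.obj.fst.hom = l ≫ k₁
      rw [Category.id_comp, sq.lift_fst]
    · show eqToHom hb.symm ≫ p.obj.snd.hom = l ≫ k₂
      rw [sq.lift_snd]
    · apply Over.OverMorphism.ext
      show 𝟙 _ ≫ i.hom.left = 𝟙 _ ≫ eqToHom hb.symm
      rw [hi]; rfl

variable {W : Over S} {w : FibCat.overCat W ⥤ᵇ 𝒳}

/-- A chart of `y ×_𝒳 W` pulled back to a point of it is a chart of the fibre product over that point,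
through the diagonal section. -/
theorem exists_pulled_chart {T N Ω : Over S} {y : FibCat.overCat T ⥤ᵇ 𝒳}
    {L : FibCat.overCat N ⥤ᵇ FibCat.fp y w} (hL : AlgSt.RepByAlgSpWith (AlgSp.LocP @Etale) L)
    {a : N ⟶ T} (α : BasedFunctor.comp L (FibCat.fpFst y w) ≅ AlgSt.overMap a)
    [LocallyOfFiniteType a.left]
    {b : N ⟶ W} (β : BasedFunctor.comp L (FibCat.fpSnd y w) ≅ AlgSt.overMap b)
    (p : Ω ⟶ N) {v : Ω ⟶ W} (hv : p ≫ b = v) (o : ↥Ω.left) :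
    ∃ (P : Over S) (k : P ⟶ Ω)
      (A : FibCat.overCat P ⥤ᵇ FibCat.fp (BasedFunctor.comp (AlgSt.overMap v) w) w) (x : ↥P.left),
      AlgSt.RepByAlgSpWith (AlgSp.LocP @Etale) A ∧
      Nonempty (BasedFunctor.comp A (FibCat.fpFst _ _) ≅ AlgSt.overMap k) ∧
      AlgSt.Points.map A (AlgSt.Points.ofChart (BasedFunctor.id _) x) =
        AlgSt.Points.map (diagSec (AlgSt.overMap v) w) (AlgSt.Points.ofChart (BasedFunctor.id _) o) ∧
      LocallyOfFiniteType k.left ∧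
      FlatMor.fibreDimAt k.left x = FlatMor.fibreDimAt a.left (p.left o) := by
  let P' := pullback (p ≫ a).left a.left
  let P : Over S := Over.mk (pullback.snd (p ≫ a).left a.left ≫ N.hom)
  let k : P ⟶ Ω := Over.homMk (pullback.fst (p ≫ a).left a.left) (by
    show pullback.fst (p ≫ a).left a.left ≫ Ω.hom = pullback.snd (p ≫ a).left a.left ≫ N.hom
    rw [← Over.w (p ≫ a), ← Over.w a, pullback.condition_assoc])
  let k' : P ⟶ N := Over.homMk (pullback.snd (p ≫ a).left a.left) rfl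
  have hs : IsPullback k.left k'.left (p ≫ a).left a.left := IsPullback.of_hasPullback _ _
  have sq : IsPullback k k' (p ≫ a) a :=
    IsPullback.of_map (Over.forget S) (Over.OverMorphism.ext hs.w) hs
  obtain ⟨Λ, hΛ, hΛ₁, hΛ₂⟩ := exists_equiv_fp_overMap' sq
  let ψ := BasedFunctor.comp (AlgSt.overMap p) L
  let αψ : BasedFunctor.comp ψ (FibCat.fpFst y w) ≅ AlgSt.overMap (p ≫ a) :=
    (whiskerLeftIso (AlgSt.overMap p) α).trans (nonempty_overMap_comp_iso p a).some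
  let β' : BasedFunctor.comp ψ (FibCat.fpSnd y w) ≅ AlgSt.overMap v :=
    (whiskerLeftIso (AlgSt.overMap p) β).trans
      ((nonempty_overMap_comp_iso p b).some.trans (eqToIso (congrArg AlgSt.overMap hv)))
  let C := fpCongr αψ.symm α.symm
  let E := BasedFunctor.comp Λ C
  have hE : FibCat.IsEquivOver E := isEquivOver_comp hΛ (isEquivOver_fpCongr _ _)
  let M := shiftChart L (AlgSt.overMap p) β'
  let A := BasedFunctor.comp E M
  let σ := FibCat.fpLift (F := BasedFunctor.comp ψ (FibCat.fpFst y w))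
    (G := BasedFunctor.comp L (FibCat.fpFst y w)) (BasedFunctor.id (FibCat.overCat Ω))
    (AlgSt.overMap p) (Iso.refl _)
  obtain ⟨e⟩ := nonempty_shiftChart_section L (AlgSt.overMap p) β'
  let q := AlgSt.Points.map σ (AlgSt.Points.ofChart (BasedFunctor.id _) o)
  obtain ⟨t, ht⟩ := (bijective_map_of_isEquivOver hE).2 q
  let x := ptToScheme P t
  have hxt : AlgSt.Points.ofChart (BasedFunctor.id _) x = t := ofChart_id_ptToScheme t
  have hx : k'.left x = p.left o := by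
    refine (bijective_ofChart_id (T := N)).1 ?_
    rw [← map_overMap_ofChart, ← map_overMap_ofChart, hxt, ← hΛ₂, map_comp]
    have h₁ : AlgSt.Points.map (BasedFunctor.comp E (FibCat.fpSnd _ _)) t =
        AlgSt.Points.map (FibCat.fpSnd _ _) q := by
      rw [← ht, ← map_comp]
    exact (map_comp Λ _ t).symm.trans (h₁.trans (map_comp _ _ _).symm)
  have : LocallyOfFiniteType k.left := MorphismProperty.of_isPullback hs.flip ‹_›
  refine ⟨P, k, A, x, ?_, ⟨?_⟩, ?_, this, ?_⟩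
  · refine (repWith_precomp_equiv hE M).2 ((repWith_postcomp_equiv _ ?_).2
      (repWith_fpPre_id_left L _ _ hL))
    exact isEquivOver_comp (isEquivOver_shift _) (isEquivOver_fpCongr _ _)
  · exact eqToIso hΛ₁
  · rw [hxt, map_comp, ht, ← map_comp, map_eq_of_iso e]
  · rw [Groth.FibreDim.fibreDimAt_baseChange a.left (p ≫ a).left k.left k'.left hs.flip x, hx]

/-- The fibre dimension of a chart of `y ×_𝒳 W` at a point depends only on its image in `W`, for any category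
fibred in groupoids. -/
theorem fibreDimAt_eq_of_same_image' {T₁ N₁ T₂ N₂ : Over S} {y₁ : FibCat.overCat T₁ ⥤ᵇ 𝒳}
    {y₂ : FibCat.overCat T₂ ⥤ᵇ 𝒳} {L₁ : FibCat.overCat N₁ ⥤ᵇ FibCat.fp y₁ w}
    (hL₁ : AlgSt.RepByAlgSpWith (AlgSp.LocP @Etale) L₁)
    {L₂ : FibCat.overCat N₂ ⥤ᵇ FibCat.fp y₂ w}
    (hL₂ : AlgSt.RepByAlgSpWith (AlgSp.LocP @Etale) L₂)
    {a₁ : N₁ ⟶ T₁} (α₁ : BasedFunctor.comp L₁ (FibCat.fpFst y₁ w) ≅ AlgSt.overMap a₁)
    [LocallyOfFiniteType a₁.left]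
    {a₂ : N₂ ⟶ T₂} (α₂ : BasedFunctor.comp L₂ (FibCat.fpFst y₂ w) ≅ AlgSt.overMap a₂)
    [LocallyOfFiniteType a₂.left]
    {b₁ : N₁ ⟶ W} (β₁ : BasedFunctor.comp L₁ (FibCat.fpSnd y₁ w) ≅ AlgSt.overMap b₁)
    {b₂ : N₂ ⟶ W} (β₂ : BasedFunctor.comp L₂ (FibCat.fpSnd y₂ w) ≅ AlgSt.overMap b₂)
    (hX : FibCat.IsFibGrpd 𝒳.p)
    (n₁ : ↥N₁.left) (n₂ : ↥N₂.left) (hn : b₁.left n₁ = b₂.left n₂) :
    FlatMor.fibreDimAt a₁.left n₁ = FlatMor.fibreDimAt a₂.left n₂ := by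
  let Ω : Over S := Over.mk (pullback.fst b₁.left b₂.left ≫ N₁.hom)
  let p₁ : Ω ⟶ N₁ := Over.homMk (pullback.fst b₁.left b₂.left) rfl
  let p₂ : Ω ⟶ N₂ := Over.homMk (pullback.snd b₁.left b₂.left) (by
    show pullback.snd b₁.left b₂.left ≫ N₂.hom = pullback.fst b₁.left b₂.left ≫ N₁.hom
    rw [← Over.w b₁, ← Over.w b₂, pullback.condition_assoc])
  have hp : p₂ ≫ b₂ = p₁ ≫ b₁ := Over.OverMorphism.ext pullback.condition.symm
  obtain ⟨o, ho₁, ho₂⟩ := Scheme.Pullback.exists_preimage_pullback n₁ n₂ hn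
  obtain ⟨P₁, k₁, A₁, x₁, hA₁, ⟨γ₁⟩, hx₁, _, hd₁⟩ := exists_pulled_chart hL₁ α₁ β₁ p₁ rfl o
  obtain ⟨P₂, k₂, A₂, x₂, hA₂, ⟨γ₂⟩, hx₂, _, hd₂⟩ := exists_pulled_chart hL₂ α₂ β₂ p₂ hp o
  have hW := isFibGrpd_overCat W
  have hΩ := isFibGrpd_overCat Ω
  have hF : FibCat.IsFibGrpd (FibCat.fp (BasedFunctor.comp (AlgSt.overMap (p₁ ≫ b₁)) w) w).p :=
    isFibGrpd_fp hΩ hW hX
  obtain ⟨z, hz₁, hz₂⟩ := exists_points_fp (isFibGrpd_overCat P₂) hF (isFibGrpd_overCat P₁) A₂ A₁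
    (AlgSt.Points.ofChart (BasedFunctor.id _) x₁) (AlgSt.Points.ofChart (BasedFunctor.id _) x₂)
    (hx₁.trans hx₂.symm)
  have hB : AlgSt.RepByAlgSp (FibCat.fp A₁ A₂) := by
    obtain ⟨F, e, he, -⟩ := hA₂ P₁ A₁
    exact ⟨F, e, he⟩
  obtain ⟨H, R, hR, hRs⟩ := hasAtlas_of_repByAlgSp (P := @Etale) hB
  have hBg : FibCat.IsFibGrpd (FibCat.fp A₁ A₂).p :=
    isFibGrpd_fp (isFibGrpd_overCat _) (isFibGrpd_overCat _) hF
  obtain ⟨t, rfl⟩ := surjective_ofChart hBg hRs z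
  obtain ⟨h₁, ⟨δ₁⟩⟩ := exists_iso_overMap (BasedFunctor.comp R (FibCat.fpFst A₁ A₂))
  obtain ⟨h₂, ⟨δ₂⟩⟩ := exists_iso_overMap (BasedFunctor.comp R (FibCat.fpSnd A₁ A₂))
  have he₁ : Etale h₁.left := left_prop_of_repWith_overMap (P := @Etale) (repWith_of_iso δ₁
    (repWith_comp' (isFibGrpd_overCat H) hBg stableBaseChange_locP stableComp_locP
      descendsAlongAtlas_locP hR (repWith_fpFst _ _ hA₂)))
  have he₂ : Etale h₂.left := left_prop_of_repWith_overMap (P := @Etale) (repWith_of_iso δ₂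
    (repWith_comp' (isFibGrpd_overCat H) hBg stableBaseChange_locP stableComp_locP
      descendsAlongAtlas_locP hR (repWith_fpSnd _ _ hA₁)))
  have hk : h₁ ≫ k₁ = h₂ ≫ k₂ := eq_of_overMap_iso ⟨
    (nonempty_overMap_comp_iso h₁ k₁).some.symm.trans ((whiskerRightIso δ₁.symm (AlgSt.overMap k₁)).trans
      ((whiskerLeftIso (BasedFunctor.comp R (FibCat.fpFst A₁ A₂)) γ₁.symm).trans
        ((whiskerLeftIso R (whiskerRightIso (FibCat.fpIso A₁ A₂) (FibCat.fpFst _ _))).trans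
          ((whiskerLeftIso (BasedFunctor.comp R (FibCat.fpSnd A₁ A₂)) γ₂).trans
            ((whiskerRightIso δ₂ (AlgSt.overMap k₂)).trans (nonempty_overMap_comp_iso h₂ k₂).some)))))⟩
  have ht₁ : h₁.left t = x₁ := by
    refine (bijective_ofChart_id (T := P₁)).1 ?_
    rw [← map_overMap_ofChart, ← map_eq_of_iso δ₁, map_comp, ← ofChart_eq_map, hz₁]
  have ht₂ : h₂.left t = x₂ := by
    refine (bijective_ofChart_id (T := P₂)).1 ?_
    rw [← map_overMap_ofChart, ← map_eq_of_iso δ₂, map_comp, ← ofChart_eq_map, hz₂]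
  have e₁ := Groth.AlgSp3.etMor_fibreDimAt.precomp h₁.left k₁.left t
  have e₂ := Groth.AlgSp3.etMor_fibreDimAt.precomp h₂.left k₂.left t
  have e : (h₁ ≫ k₁).left = h₁.left ≫ k₁.left := rfl
  have e' : (h₂ ≫ k₂).left = h₂.left ≫ k₂.left := rfl
  rw [← e, hk, e', e₂, ht₂, hd₂, ht₁, hd₁] at e₁
  exact ((congrArg (FlatMor.fibreDimAt a₂.left) ho₂.symm).trans
    (e₁.trans (congrArg (FlatMor.fibreDimAt a₁.left) ho₁))).symm

/-- The fibre dimension of a chart of `y ×_𝒳 W` at a point depends only on its image in `W`. -/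
theorem fibreDimAt_eq_of_same_image {T₁ N₁ T₂ N₂ : Over S} {y₁ : FibCat.overCat T₁ ⥤ᵇ 𝒳}
    {y₂ : FibCat.overCat T₂ ⥤ᵇ 𝒳} {L₁ : FibCat.overCat N₁ ⥤ᵇ FibCat.fp y₁ w}
    (hL₁ : AlgSt.RepByAlgSpWith (AlgSp.LocP @Etale) L₁)
    {L₂ : FibCat.overCat N₂ ⥤ᵇ FibCat.fp y₂ w}
    (hL₂ : AlgSt.RepByAlgSpWith (AlgSp.LocP @Etale) L₂)
    {a₁ : N₁ ⟶ T₁} (α₁ : BasedFunctor.comp L₁ (FibCat.fpFst y₁ w) ≅ AlgSt.overMap a₁)
    [LocallyOfFiniteType a₁.left]
    {a₂ : N₂ ⟶ T₂} (α₂ : BasedFunctor.comp L₂ (FibCat.fpFst y₂ w) ≅ AlgSt.overMap a₂)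
    [LocallyOfFiniteType a₂.left]
    {b₁ : N₁ ⟶ W} (β₁ : BasedFunctor.comp L₁ (FibCat.fpSnd y₁ w) ≅ AlgSt.overMap b₁)
    {b₂ : N₂ ⟶ W} (β₂ : BasedFunctor.comp L₂ (FibCat.fpSnd y₂ w) ≅ AlgSt.overMap b₂)
    (h𝒳 : AlgSt.IsAlgStack Scheme.fppfPrecoverage 𝒳)
    (n₁ : ↥N₁.left) (n₂ : ↥N₂.left) (hn : b₁.left n₁ = b₂.left n₂) :
    FlatMor.fibreDimAt a₁.left n₁ = FlatMor.fibreDimAt a₂.left n₂ :=
  fibreDimAt_eq_of_same_image' hL₁ hL₂ α₁ α₂ β₁ β₂ h𝒳.isStack.1 n₁ n₂ hn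

end Groth.ResGerbe.QDM
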