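import Mathlib

/-!
# Fields inside algebras of finite type over a field
-/

set_option autoImplicit false

universe u v w

open Polynomial

namespace Groth.ResGerbe.QDM

/-- A nonzero polynomial does not bound `T ^ N - 1`. -/
theorem exists_prime_not_mem {k : Type u} [Field k] {g : k[X]} (hg : g ≠ 0) :
    ∃ (N : ℕ) (p : PrimeSpectrum k[X]), 0 < N ∧ X ^ N - 1 ∈ p.asIdeal ∧ g ∉ p.asIdeal := by
  obtain ⟨N, hN, hp⟩ := Nat.exists_infinite_primes (max (g.natDegree + 1) (ringChar k + 1))
  have hN₀ : 0 < N := hp.pos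
  have hNk : (N : k) ≠ 0 := fun h => by
    have h₁ : ringChar k ∣ N := (ringChar.spec k N).1 h
    rcases hp.eq_one_or_self_of_dvd _ h₁ with h₂ | h₂
    · exact CharP.ringChar_ne_one h₂
    · omega
  let P : k[X] := X ^ N - 1
  have hsep : P.Separable := by
    have := separable_X_pow_sub_C (1 : k) hNk one_ne_zero
    rwa [map_one] at this
  have hdeg : P.natDegree = N := by
    have := natDegree_X_pow_sub_C (n := N) (r := (1 : k))
    rwa [map_one] at this
  have hn : g ∉ (Ideal.span {P}).radical := fun h => by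
    obtain ⟨n, hn⟩ := h
    rw [Ideal.mem_span_singleton] at hn
    rcases eq_or_ne n 0 with rfl | hn0
    · have := natDegree_le_of_dvd hn one_ne_zero
      rw [hdeg, pow_zero, natDegree_one] at this
      omega
    · have h' := natDegree_le_of_dvd ((hsep.squarefree.dvd_pow_iff_dvd hn0).1 hn) hg
      omega
  rw [Ideal.radical_eq_sInf, Submodule.mem_sInf] at hn
  push Not at hn
  obtain ⟨J, ⟨hJ, hJp⟩, hgJ⟩ := hn
  exact ⟨N, ⟨J, hJp⟩, hN₀, hJ (Ideal.mem_span_singleton_self P), hgJ⟩

/-- A field inside a domain of finite type over `k` is algebraic over `k`. -/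
theorem isAlgebraic_of_field_hom {k : Type u} {A : Type v} {K : Type w} [Field k] [CommRing A]
    [IsDomain A] [Algebra k A] [Algebra.FiniteType k A] [Field K] (φ : K →+* A) (x : K) :
    IsAlgebraic k (φ x) := by
  by_contra ht
  let ev : k[X] →+* A := (aeval (φ x) : k[X] →ₐ[k] A).toRingHom
  have hinj : Function.Injective ev := transcendental_iff_injective.1 ht
  letI : Algebra k[X] A := ev.toAlgebra
  haveI : IsScalarTower k k[X] A := IsScalarTower.of_algebraMap_eq fun c => by
    show algebraMap k A c = ev (C c)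
    simp [ev]
  haveI : Algebra.FiniteType k[X] A := Algebra.FiniteType.of_restrictScalars_finiteType k k[X] A
  have hfp : ev.FinitePresentation := RingHom.FinitePresentation.of_finiteType.1 ‹_›
  have hc := PrimeSpectrum.isConstructible_range_comap hfp
  obtain ⟨D, hD⟩ := PrimeSpectrum.exists_constructibleSetData_iff.2 hc
  have hbot : (⟨⊥, Ideal.isPrime_bot⟩ : PrimeSpectrum k[X]) ∈ Set.range (PrimeSpectrum.comap ev) :=
    ⟨⟨⊥, Ideal.isPrime_bot⟩, PrimeSpectrum.ext ((RingHom.injective_iff_ker_eq_bot ev).1 hinj)⟩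
  rw [← hD] at hbot
  simp only [PrimeSpectrum.ConstructibleSetData.toSet, Set.mem_iUnion, exists_prop,
    PrimeSpectrum.BasicConstructibleSetData.toSet, Set.mem_sdiff, PrimeSpectrum.mem_zeroLocus,
    Set.singleton_subset_iff] at hbot
  obtain ⟨C, hC, hg, hf⟩ := hbot
  have hf0 : C.f ≠ 0 := fun h => hf (by rw [h]; exact zero_mem _)
  obtain ⟨N, p, hN, hp, hfp'⟩ := exists_prime_not_mem hf0
  have hmem : p ∈ Set.range (PrimeSpectrum.comap ev) := by
    rw [← hD]
    simp only [PrimeSpectrum.ConstructibleSetData.toSet, Set.mem_iUnion, exists_prop,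
      PrimeSpectrum.BasicConstructibleSetData.toSet, Set.mem_sdiff, PrimeSpectrum.mem_zeroLocus,
      Set.singleton_subset_iff]
    exact ⟨C, hC, fun y hy => by
      rw [show y = 0 by simpa using hg hy]; exact zero_mem _, hfp'⟩
  obtain ⟨q, rfl⟩ := hmem
  have hq : φ (x ^ N - 1) ∈ q.asIdeal := by
    have : ev (X ^ N - 1) ∈ q.asIdeal := hp
    simpa [ev] using this
  have hx : x ^ N - 1 = 0 := by
    by_contra h
    exact q.isPrime.ne_top (Ideal.eq_top_of_isUnit_mem _ hq ((isUnit_iff_ne_zero.2 h).map φ))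
  refine ht ⟨X ^ N - 1, ?_, ?_⟩
  · exact (monic_X_pow_sub_C (1 : k) hN.ne').ne_zero ∘ fun h => by rw [map_one]; exact h
  · simp only [map_sub, map_pow, aeval_X, map_one]
    rw [← map_pow, ← map_one φ, ← map_sub, hx, map_zero]

end Groth.ResGerbe.QDM
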