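import Groth.Agent.ResGerbe.QDM.Field
import Groth.Agent.ResGerbe.HomBij
import Groth.Agent.GitQuot.Slice.Local

/-!
# Points over a finite type point of both source and target are closed in the source fibre
-/

set_option autoImplicit false
set_option backward.isDefEq.respectTransparency false
set_option backward.isDefEq.respectTransparency.types false

universe u

open CategoryTheory CategoryTheory.Limits AlgebraicGeometry

noncomputable section

namespace Groth.ResGerbe.QDM

theorem isMaximal_of_lqf {k : Type u} [Field k] {U S : Scheme.{u}} (ι : Spec (CommRingCat.of k) ⟶ U)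
    (q : U ⟶ S) {A : Type u} [CommRing A] [IsDomain A] [Algebra k A] [Algebra.FiniteType k A]
    {R : Scheme.{u}} (j : R ⟶ pullback q q) [LocallyQuasiFinite j]
    (m : Spec (CommRingCat.of A) ⟶ R) [IsPreimmersion m]
    (h₁ : m ≫ j ≫ pullback.fst q q = Spec.map (CommRingCat.ofHom (algebraMap k A)) ≫ ι)
    (φ : k →+* A) (h₂ : m ≫ j ≫ pullback.snd q q = Spec.map (CommRingCat.ofHom φ) ≫ ι) :
    IsField A := by
  let L := integralClosure k A
  have hLf : IsField L :=
    isField_of_isIntegral_of_isField' (R := k) (S := L) (Field.toIsField k)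
  letI : Field L := hLf.toField
  let lA : CommRingCat.of L ⟶ CommRingCat.of A := CommRingCat.ofHom L.val.toRingHom
  let φL : k →+* L := φ.codRestrict L fun x =>
    (isAlgebraic_of_field_hom φ x).isIntegral
  have e₁ : Spec.map lA ≫ Spec.map (CommRingCat.ofHom (algebraMap k L)) =
      Spec.map (CommRingCat.ofHom (algebraMap k A)) := by
    rw [← Spec.map_comp]; rfl
  have e₂ : Spec.map lA ≫ Spec.map (CommRingCat.ofHom φL) = Spec.map (CommRingCat.ofHom φ) := by
    rw [← Spec.map_comp]; rfl
  have : Flat (Spec.map lA) := flat_to_spec_field _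
  have : Nonempty ↥(Spec (CommRingCat.of A)) :=
    inferInstanceAs (Nonempty (PrimeSpectrum A))
  have : Subsingleton ↥(Spec (CommRingCat.of L)) :=
    inferInstanceAs (Subsingleton (PrimeSpectrum L))
  have : Surjective (Spec.map lA) := ⟨fun x => ⟨Classical.arbitrary _, Subsingleton.elim _ _⟩⟩
  have := Flat.epi_of_flat_of_surjective (Spec.map lA)
  let σ : Spec (CommRingCat.of L) ⟶ pullback q q :=
    pullback.lift (Spec.map (CommRingCat.ofHom (algebraMap k L)) ≫ ι)
      (Spec.map (CommRingCat.ofHom φL) ≫ ι) (by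
        rw [← cancel_epi (Spec.map lA)]
        simp only [← Category.assoc, e₁, e₂, ← h₁, ← h₂]
        simp only [Category.assoc, pullback.condition])
  have hσ : Spec.map lA ≫ σ = m ≫ j := by
    apply pullback.hom_ext
    · rw [Category.assoc, Category.assoc, pullback.lift_fst, h₁, ← Category.assoc, e₁]
    · rw [Category.assoc, Category.assoc, pullback.lift_snd, h₂, ← Category.assoc, e₂]
  let l : Spec (CommRingCat.of A) ⟶ pullback j σ := pullback.lift m (Spec.map lA) hσ.symm
  have hl : l ≫ pullback.fst j σ = m := pullback.lift_fst _ _ _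
  have : IsPreimmersion (l ≫ pullback.fst j σ) := hl ▸ inferInstance
  have hls : l ≫ pullback.snd j σ = Spec.map lA := pullback.lift_snd _ _ _
  have hinj : Function.Injective l := by
    intro x y e
    refine m.isEmbedding.injective ?_
    rw [← hl, Scheme.Hom.comp_apply, Scheme.Hom.comp_apply, e]
  let o : ↥(Spec (CommRingCat.of L)) := Classical.arbitrary _
  have hd : DiscreteTopology ↥(pullback j σ) := by
    have h := (pullback.snd j σ).isDiscrete_preimage_singleton o
    rw [show pullback.snd j σ ⁻¹' {o} = Set.univ from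
      Set.eq_univ_of_forall fun a => Subsingleton.elim _ _] at h
    have : DiscreteTopology ↥(Set.univ : Set ↥(pullback j σ)) := h.to_subtype
    exact (Homeomorph.Set.univ _).symm.isEmbedding.discreteTopology
  have hdA : DiscreteTopology ↥(Spec (CommRingCat.of A)) :=
    DiscreteTopology.of_continuous_injective l.continuous hinj
  by_contra hA
  obtain ⟨M, hM, hMm⟩ := Ring.not_isField_iff_exists_prime.1 hA
  let pb : ↥(Spec (CommRingCat.of A)) := (⟨⊥, Ideal.isPrime_bot⟩ : PrimeSpectrum A)
  let pM : ↥(Spec (CommRingCat.of A)) := (⟨M, hMm⟩ : PrimeSpectrum A)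
  have h : pb ⤳ pM :=
    (PrimeSpectrum.le_iff_specializes (⟨⊥, Ideal.isPrime_bot⟩ : PrimeSpectrum A) ⟨M, hMm⟩).1 bot_le
  exact hM (congrArg PrimeSpectrum.asIdeal h.eq).symm

variable {U S R : Scheme.{u}} {q : U ⟶ S} (j : R ⟶ pullback q q)

/-- Points over `u` on both sides are closed in the fibre of the source map. -/
theorem isClosed_asFiber_loop [LocallyQuasiFinite j]
    [LocallyOfFiniteType (j ≫ pullback.fst q q)] (r : R)
    [LocallyOfFiniteType (U.fromSpecResidueField ((j ≫ pullback.fst q q) r))]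
    (ht : (j ≫ pullback.snd q q) r = (j ≫ pullback.fst q q) r) :
    IsClosed ({(j ≫ pullback.fst q q).asFiber r} :
      Set ((j ≫ pullback.fst q q).fiber ((j ≫ pullback.fst q q) r))) := by
  let s := j ≫ pullback.fst q q
  let t := j ≫ pullback.snd q q
  let k : Type u := U.residueField (s r)
  let ι := U.fromSpecResidueField (s r)
  let F := pullback s ι
  let P := pullback (pullback.fst s ι ≫ t) ι
  let π : P ⟶ Spec (CommRingCat.of k) := pullback.fst _ _ ≫ pullback.snd s ι
  let τ : P ⟶ Spec (CommRingCat.of k) := pullback.snd _ _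
  let m : P ⟶ R := pullback.fst _ _ ≫ pullback.fst s ι
  have : LocallyOfFiniteType π := by dsimp only [π]; infer_instance
  have : IsPreimmersion m := by dsimp only [m]; infer_instance
  have : JacobsonSpace ↥P := LocallyOfFiniteType.jacobsonSpace π
  have hm₁ : m ≫ s = π ≫ ι := by simp [m, π, pullback.condition]
  have hm₂ : m ≫ t = τ ≫ ι := by simp [m, τ, pullback.condition]
  obtain ⟨p, hp, -⟩ := Scheme.Pullback.exists_preimage_pullback (f := pullback.fst s ι ≫ t) (g := ι)
    (s.asFiber r) (IsLocalRing.closedPoint k) (by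
      show t (s.fiberι (s r) (s.asFiber r)) = _
      rw [s.fiberι_asFiber]
      exact ht.trans (Scheme.fromSpecResidueField_apply _ _).symm)
  obtain ⟨V, hV, hpV, -⟩ := exists_isAffineOpen_mem_and_subset (x := p) (U := (⊤ : P.Opens)) trivial
  let 𝔭 := (hV.primeIdealOf ⟨p, hpV⟩).asIdeal
  obtain ⟨ψ, hψ⟩ : ∃ ψ : CommRingCat.of k ⟶ Γ(P, V), Spec.map ψ = hV.fromSpec ≫ π :=
    ⟨_, Spec.map_preimage _⟩
  obtain ⟨θ, hθ⟩ : ∃ θ : CommRingCat.of k ⟶ Γ(P, V), Spec.map θ = hV.fromSpec ≫ τ :=
    ⟨_, Spec.map_preimage _⟩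
  letI : Algebra k (Γ(P, V) ⧸ 𝔭) := ((Ideal.Quotient.mk 𝔭).comp ψ.hom).toAlgebra
  have : Algebra.FiniteType k (Γ(P, V) ⧸ 𝔭) := by
    have h : LocallyOfFiniteType (Spec.map ψ) := hψ ▸ inferInstance
    rw [HasRingHomProperty.Spec_iff (P := @LocallyOfFiniteType)] at h
    exact RingHom.FiniteType.comp_surjective h Ideal.Quotient.mk_surjective
  let b := Spec.map (CommRingCat.ofHom (Ideal.Quotient.mk 𝔭)) ≫ hV.fromSpec
  have : IsClosedImmersion (Spec.map (CommRingCat.ofHom (Ideal.Quotient.mk 𝔭))) :=
    IsClosedImmersion.spec_of_surjective _ Ideal.Quotient.mk_surjective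
  have : IsPreimmersion (b ≫ m) := by dsimp only [b]; infer_instance
  have hA : IsField (Γ(P, V) ⧸ 𝔭) := isMaximal_of_lqf (k := k) ι q j (b ≫ m) (by
      refine (Category.assoc b m _).trans ((congrArg (b ≫ ·) hm₁).trans
        ((Category.assoc b π ι).symm.trans (congrArg (· ≫ ι) ?_)))
      show (Spec.map (CommRingCat.ofHom (Ideal.Quotient.mk 𝔭)) ≫ hV.fromSpec) ≫ π = _
      exact (Category.assoc _ _ _).trans ((congrArg _ hψ.symm).trans (Spec.map_comp _ _).symm))
    ((Ideal.Quotient.mk 𝔭).comp θ.hom) (by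
      refine (Category.assoc b m _).trans ((congrArg (b ≫ ·) hm₂).trans
        ((Category.assoc b τ ι).symm.trans (congrArg (· ≫ ι) ?_)))
      show (Spec.map (CommRingCat.ofHom (Ideal.Quotient.mk 𝔭)) ≫ hV.fromSpec) ≫ τ = _
      exact (Category.assoc _ _ _).trans ((congrArg _ hθ.symm).trans (Spec.map_comp _ _).symm))
  have hmax : 𝔭.IsMaximal := Ideal.Quotient.maximal_of_isField _ hA
  have hcl : IsClosed ({p} : Set P) := by
    have h : IsClosed ({hV.primeIdealOf ⟨p, hpV⟩} : Set (Spec Γ(P, V))) :=
      (PrimeSpectrum.isClosed_singleton_iff_isMaximal _).2 hmax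
    have h' : hV.primeIdealOf ⟨p, hpV⟩ ∈ closedPoints ↥(Spec Γ(P, V)) := h
    rw [← hV.fromSpec.isOpenEmbedding.preimage_closedPoints, Set.mem_preimage,
      hV.fromSpec_primeIdealOf] at h'
    exact h'
  have hfib : IsClosed ({pullback.fst (pullback.fst s ι ≫ t) ι p} : Set F) := by
    have : LocallyOfFiniteType (pullback.snd s ι) := inferInstance
    have : JacobsonSpace ↥F := LocallyOfFiniteType.jacobsonSpace (pullback.snd s ι)
    exact (pullback.fst (pullback.fst s ι ≫ t) ι).closePoints_subset_preimage_closedPoints hcl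
  rw [hp] at hfib
  exact hfib

end Groth.ResGerbe.QDM
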