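import Groth.Agent.GitQuot.Slice.At
import Groth.Agent.ResGerbe.QDM.Loops

/-!
# Slices at a finite type point of a pair of maps with quasi-finite pairs
-/

set_option autoImplicit false
set_option backward.isDefEq.respectTransparency false
set_option backward.isDefEq.respectTransparency.types false
universe u

open AlgebraicGeometry CategoryTheory CategoryTheory.Limits IsLocalRing Topology
open Groth.GrpdSlice

noncomputable section

namespace Groth.ResGerbe.QDM

/-- Cutting the target of `t` makes `s` quasi-finite at a point over the same finite type point. -/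
theorem exists_slice {R₀ U : Scheme.{u}} (s t : R₀ ⟶ U) [LocallyOfFinitePresentation s] (r : R₀)
    [LocallyOfFiniteType (U.fromSpecResidueField (s r))] (hcm : Grpd.IsCMAt s r) (ht : t r = s r)
    (hloop : ∀ x, s x = s r → t x = s r → IsClosed ({s.asFiber x} : Set (s.fiber (s x)))) :
    ∃ (V : U.Opens) (hV : IsAffineOpen V) (l : List Γ(U, V))
      (u' : Spec (CommRingCat.of (Γ(U, V) ⧸ Ideal.ofList l))) (z : ↥(pullback (slice hV l) t)),
      slice hV l u' = s r ∧ pullback.fst (slice hV l) t z = u' ∧ pullback.snd (slice hV l) t z = r ∧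
      Grpd.IsCMAt (pullback.snd (slice hV l) t ≫ s) z ∧
      FlatMor.fibreDimAt (pullback.snd (slice hV l) t ≫ s) z = 0 := by
  classical
  obtain ⟨u, hsr⟩ : ∃ u, s r = u := ⟨_, rfl⟩
  have htr : t r = u := ht.trans hsr
  have : LocallyOfFiniteType (U.fromSpecResidueField u) := hsr ▸ inferInstance
  obtain ⟨n, hd⟩ := Groth.CMMor.exists_fibreDimAt_eq_nat s r
  obtain ⟨hflat, hcmR⟩ := (Groth.Flatmor4.isCMAt_iff s r).1 ((Groth.Flatmor4.isCMAt_iff s r).2 hcm)
  -- an affine chart where `u` is closed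
  obtain ⟨V, hV, hrV, -, hmax⟩ := Groth.AlgSpFppf.exists_isMaximal_image (U.fromSpecResidueField u)
    (W := ⊤) (isAffineOpen_top _) ⟨IsLocalRing.closedPoint (U.residueField u), trivial⟩
    (by
      have : Subsingleton ↥(⊤ : (Spec (U.residueField u)).Opens) :=
        (inferInstanceAs (Subsingleton { x : PrimeSpectrum (U.residueField u) // x ∈ (⊤ : Set _) }))
      exact (Set.subsingleton_singleton).isClosed)
    (Ω := ⊤) trivial
  rw [Scheme.fromSpecResidueField_apply] at hrV
  have hVt : t r ∈ V := by rw [htr]; exact hrV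
  have hmax' : (hV.primeIdealOf ⟨t r, hVt⟩).asIdeal.IsMaximal := by
    convert hmax using 4
    exact htr.trans (Scheme.fromSpecResidueField_apply _ _).symm
  set p := (hV.primeIdealOf ⟨t r, hVt⟩).asIdeal
  set J := (maximalIdeal (U.presheaf.stalk (s r))).map (s.stalkMap r).hom with hJ
  let R := R₀.presheaf.stalk r ⧸ J
  letI := U.presheaf.algebra_section_stalk ⟨t r, hVt⟩
  haveI := hV.isLocalization_stalk ⟨t r, hVt⟩
  let φ : Γ(U, V) →+* R :=
    (Ideal.Quotient.mk J).comp ((t.stalkMap r).hom.comp (U.presheaf.germ V (t r) hVt).hom)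
  haveI : LocCoh.IsCohenMacaulayLocalRing R := hcmR
  have hlocal : ∀ x ∈ maximalIdeal (R₀.presheaf.stalk r), Ideal.Quotient.mk J x ∈ maximalIdeal R := by
    intro x hx
    rw [← map_maximalIdeal_of_surjective (Ideal.Quotient.mk J) Ideal.Quotient.mk_surjective]
    exact Ideal.mem_map_of_mem _ hx
  have hp : ∀ a ∈ p, φ a ∈ maximalIdeal R := fun a ha => hlocal _
    ((IsLocalRing.mem_maximalIdeal _).2 fun hu => (IsLocalRing.mem_maximalIdeal _).1
      ((IsLocalization.AtPrime.to_map_mem_maximal_iff (U.presheaf.stalk (t r)) p a).mpr ha)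
      ((isUnit_map_iff (t.stalkMap r).hom _).1 hu))
  -- the part of the fibre cut out by `p` is made of loops
  have hloc : ∀ P : Ideal R, P.IsPrime → (∀ a ∈ p, φ a ∈ P) → ringKrullDim (R ⧸ P) ≤ ((0 : ℕ) : WithBot ℕ∞) := by
    intro P hP hpP
    let π : R₀.presheaf.stalk r →+* R ⧸ P := (Ideal.Quotient.mk P).comp (Ideal.Quotient.mk J)
    have hπ : Function.Surjective π := Ideal.Quotient.mk_surjective.comp Ideal.Quotient.mk_surjective
    let k := Spec.map (CommRingCat.ofHom π) ≫ R₀.fromSpecStalk r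
    have : IsClosedImmersion (Spec.map (CommRingCat.ofHom π)) := IsClosedImmersion.spec_of_surjective _ hπ
    have hks : ∀ z, s (k z) = s r := apply_fromSpecStalk_eq s r π fun a ha => by
      show Ideal.Quotient.mk P (Ideal.Quotient.mk J ((s.stalkMap r).hom a)) = 0
      rw [Ideal.Quotient.eq_zero_iff_mem.2 (Ideal.mem_map_of_mem _ ha), map_zero]
    have hkt : ∀ z, t (k z) = t r := apply_fromSpecStalk_eq t r π fun a ha => by
      have hm : maximalIdeal (U.presheaf.stalk (t r)) ≤ RingHom.ker (π.comp (t.stalkMap r).hom) := by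
        rw [← IsLocalization.AtPrime.map_eq_maximalIdeal p (U.presheaf.stalk (t r)),
          Ideal.map_le_iff_le_comap]
        intro b hb
        exact Ideal.Quotient.eq_zero_iff_mem.2 (hpP b hb)
      exact hm ha
    have hF : IsField (R ⧸ P) := by
      by_contra hA
      obtain ⟨M, hM, hMm⟩ := Ring.not_isField_iff_exists_prime.1 hA
      let pb : ↥(Spec (CommRingCat.of (R ⧸ P))) :=
        (⟨⊥, Ideal.isPrime_bot⟩ : PrimeSpectrum (R ⧸ P))
      let pM : ↥(Spec (CommRingCat.of (R ⧸ P))) := (⟨M, hMm⟩ : PrimeSpectrum (R ⧸ P))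
      have h : pb ⤳ pM :=
        (PrimeSpectrum.le_iff_specializes (⟨⊥, Ideal.isPrime_bot⟩ : PrimeSpectrum (R ⧸ P)) ⟨M, hMm⟩).1 bot_le
      have h' : k pM = k pb := (isClosed_asFiber_iff s (k pb)).1
        (hloop (k pb) (hks pb) ((hkt pb).trans ht)) (k pM) ((hks pM).trans (hks pb).symm)
        (h.map k.continuous)
      exact hM (congrArg PrimeSpectrum.asIdeal (k.isEmbedding.injective h'))
    rw [ringKrullDim_eq_zero_of_isField hF]
    rfl
  have hrcl : IsClosed ({s.asFiber r} : Set (s.fiber (s r))) :=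
    hloop r rfl ht
  have hdimR : ringKrullDim R = ((n + 0 : ℕ) : WithBot ℕ∞) := by
    rw [← fibreDimAt_eq_of_isClosed s r hrcl, hd, Nat.add_zero]
  obtain ⟨l, hlp, -, hreg, hcmQ, hdimQ⟩ := exists_cut φ p hp n 0 hloc hdimR
  -- spreading out
  obtain ⟨V₀, hV₀, hrV₀, -⟩ :=
    exists_isAffineOpen_mem_and_subset (x := s r) (TopologicalSpace.Opens.mem_top (s r))
  obtain ⟨W, hW, hrW, hWV⟩ := exists_isAffineOpen_mem_and_subset (x := r)
    (show r ∈ s ⁻¹ᵁ V₀ ⊓ t ⁻¹ᵁ V from ⟨hrV₀, hVt⟩)
  have e : W ≤ s ⁻¹ᵁ V₀ := fun x hx => (hWV hx).1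
  have et : W ≤ t ⁻¹ᵁ V := fun x hx => (hWV hx).2
  let c := l.map (t.appLE V W et).hom
  have hgerm : ∀ a, R₀.presheaf.germ W r hrW ((t.appLE V W et).hom a) =
      (t.stalkMap r).hom (U.presheaf.germ V (t r) hVt a) := fun a =>
    (Groth.FlatMor2.FibCrit.stalkMap_germ_appLE t et r hrW a).symm
  have hmemc : ∀ a ∈ c, R₀.presheaf.germ W r hrW a ∈ maximalIdeal (R₀.presheaf.stalk r) := by
    intro a ha
    obtain ⟨b, hb, rfl⟩ := List.mem_map.1 ha
    rw [hgerm, IsLocalRing.mem_maximalIdeal]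
    intro hu
    exact (IsLocalRing.mem_maximalIdeal _).1 (hp b (hlp b hb)) (hu.map (Ideal.Quotient.mk J))
  have hcmap : c.map (fun a => Ideal.Quotient.mk J (R₀.presheaf.germ W r hrW a)) = l.map φ := by
    simp only [c, List.map_map]
    exact List.map_congr_left fun a _ => congrArg (Ideal.Quotient.mk J) (hgerm a)
  obtain ⟨g, hrg, hall⟩ := Groth.FlatMor2.FibCrit.exists_regular_nhd s hV₀ hW e r hrW hflat c hmemc
    (by rw [hcmap]; exact hreg)
  obtain ⟨-, h2, -, -⟩ := hall g dvd_rfl
  let W' := R₀.basicOpen g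
  have hW' : IsAffineOpen W' := hW.basicOpen g
  have et' : W' ≤ t ⁻¹ᵁ V := (R₀.basicOpen_le g).trans et
  let c' := c.map (R₀.presheaf.map (homOfLE (R₀.basicOpen_le g)).op)
  haveI : Flat (Spec.map (CommRingCat.ofHom (Ideal.Quotient.mk (Ideal.ofList c'))) ≫ hW'.fromSpec ≫ s) := h2
  have hc' : Ideal.ofList c' = (Ideal.ofList l).map (t.appLE V W' et').hom := by
    rw [Ideal.map_ofList]
    simp only [c', c, List.map_map]
    congr 1
    refine List.map_congr_left fun a _ => ?_
    exact (ConcreteCategory.congr_hom (t.appLE_map et (homOfLE (R₀.basicOpen_le g)).op) a : _)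
  let i := slice hV l
  let b := Spec.map (CommRingCat.ofHom (Ideal.Quotient.mk (Ideal.ofList c')))
  have hpb₀ := (isPullback_SpecMap_of_isPushout _ _ _ _ (Groth.AlgSpFppf.isPushout_quotient (t.appLE V W' et')
    (Ideal.ofList l) (Ideal.ofList c') hc'))
  let a := Spec.map (CommRingCat.ofHom
    (Ideal.quotientMap (Ideal.ofList c') (t.appLE V W' et').hom (hc' ▸ Ideal.le_comap_map)))
  have hpb₁ : IsPullback b a (Spec.map (t.appLE V W' et') ≫ hV.fromSpec) i :=
    ⟨⟨by rw [← Category.assoc, hpb₀.w, Category.assoc]⟩, ⟨PullbackCone.IsLimit.mk _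
      (fun k => hpb₀.lift k.fst k.snd (by
        have := k.condition; rwa [← Category.assoc, ← Category.assoc, cancel_mono] at this))
      (fun k => hpb₀.lift_fst _ _ _) (fun k => hpb₀.lift_snd _ _ _)
      (fun k m h₁ h₂ => hpb₀.hom_ext (by rw [h₁, hpb₀.lift_fst]) (by rw [h₂, hpb₀.lift_snd]))⟩⟩
  rw [hV.SpecMap_appLE_fromSpec t hW' et'] at hpb₁
  let j : Spec (CommRingCat.of (Γ(R₀, W') ⧸ Ideal.ofList c')) ⟶ pullback i t :=
    pullback.lift a (b ≫ hW'.fromSpec) (by rw [Category.assoc]; exact hpb₁.w.symm)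
  have hj : j ≫ pullback.snd i t = b ≫ hW'.fromSpec := pullback.lift_snd _ _ _
  have hpj : IsPullback j b (pullback.snd i t) hW'.fromSpec :=
    IsPullback.of_right (by
      rw [show j ≫ pullback.fst i t = a from pullback.lift_fst _ _ _]
      exact hpb₁.flip) hj (IsPullback.of_hasPullback i t).flip.flip
  haveI : IsOpenImmersion j := MorphismProperty.of_isPullback hpj.flip inferInstance
  have hmem' : ∀ a ∈ c', R₀.presheaf.germ W' r hrg a ∈ maximalIdeal (R₀.presheaf.stalk r) := by
    intro a ha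
    obtain ⟨a, ha', rfl⟩ := List.mem_map.mp ha
    rw [R₀.presheaf.germ_res_apply _ r hrg a]
    exact hmemc a ha'
  obtain ⟨y, hy⟩ := Groth.FlatMor2.FibCrit.mem_range_ofList hW' c' r hrg hmem'
  have hiu : u ∈ Set.range i := by
    refine Groth.FlatMor2.FibCrit.mem_range_ofList hV l u hrV fun a ha => ?_
    suffices ∀ (x : U) (hx : x ∈ V), x = t r →
        U.presheaf.germ V x hx a ∈ maximalIdeal (U.presheaf.stalk x) from this u hrV htr.symm
    intro x hx e
    subst e
    exact (IsLocalization.AtPrime.to_map_mem_maximal_iff (U.presheaf.stalk (t r)) p a).mpr (hlp a ha)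
  obtain ⟨u', hu'⟩ := hiu
  have hz : pullback.snd i t (j y) = r := by rw [← Scheme.Hom.comp_apply, hj]; exact hy
  refine ⟨V, hV, l, u', j y, hu'.trans hsr.symm, ?_, hz, ?_, ?_⟩
  · have := isImmersion_slice hV l
    refine i.isEmbedding.injective ?_
    rw [hu', ← Scheme.Hom.comp_apply, pullback.condition, Scheme.Hom.comp_apply, hz, htr]
  all_goals
    let k := b ≫ hW'.fromSpec
    have hke : j ≫ pullback.snd i t ≫ s = k ≫ s := by rw [← Category.assoc, hj]
    haveI : IsClosedImmersion b := IsClosedImmersion.spec_of_surjective _ Ideal.Quotient.mk_surjective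
    have key : ∀ (x : R₀), k y = x → x = r → Nonempty
        ((Spec (CommRingCat.of (Γ(R₀, W') ⧸ Ideal.ofList c'))).presheaf.stalk y ⧸
          (maximalIdeal (U.presheaf.stalk ((k ≫ s) y))).map ((k ≫ s).stalkMap y).hom ≃+*
            R ⧸ Ideal.ofList (l.map φ)) := by
      intro x hx hxr
      subst hx
      have hky : k y ∈ W' := by rw [hxr]; exact hrg
      obtain ⟨e'⟩ := nonempty_fibre_equiv_of_ker k s y (k.stalkMap_surjective y) _
        (ker_stalkMap_ofList hW' c' y hky)
      suffices hres : ∀ (x : R₀) (hx : x ∈ W'), x = r → Nonempty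
          (((R₀.presheaf.stalk x ⧸ (maximalIdeal (U.presheaf.stalk (s x))).map (s.stalkMap x).hom) ⧸
            (Ideal.ofList (c'.map (R₀.presheaf.germ W' x hx).hom)).map (Ideal.Quotient.mk _)) ≃+*
              R ⧸ Ideal.ofList (l.map φ)) by
        obtain ⟨e''⟩ := hres (k y) hky hxr
        exact ⟨e'.trans e''⟩
      intro x hx hxr
      subst hxr
      refine ⟨Ideal.quotEquivOfEq ?_⟩
      rw [Ideal.map_ofList, ← hcmap]
      simp only [c', List.map_map]
      congr 1
      refine List.map_congr_left fun a _ => ?_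
      exact congrArg (Ideal.Quotient.mk J) (R₀.presheaf.germ_res_apply _ _ hx a)
    obtain ⟨eQ⟩ := key _ rfl hy
  · have hcmk : MoreMor.IsCMAt (k ≫ s) y := by
      refine (Groth.Flatmor4.isCMAt_iff _ y).2 ⟨?_, Groth.Ega4b.isCohenMacaulayLocalRing_of_ringEquiv eQ.symm hcmQ⟩
      haveI : Flat (k ≫ s) := by rw [Category.assoc]; exact h2
      exact Flat.stalkMap _ _
    rw [← hke, Groth.CMMor.isCMAt_openImmersion_comp] at hcmk
    exact (Groth.Flatmor4.isCMAt_iff _ _).1 hcmk
  · rw [← Groth.FibreDim.fibreDimAt_openImmersion_comp, hke, fibreDimAt_eq_of_isClosed _ y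
      (isClosed_asFiber_comp s k k.isEmbedding.injective y (by
        show IsClosed ({s.asFiber (k y)} : Set (s.fiber (s (k y))))
        rw [show k y = r from hy]; exact hrcl)),
      ringKrullDim_eq_of_ringEquiv eQ, hdimQ]
    rfl


end Groth.ResGerbe.QDM
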