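import Groth.Agent.ResGerbe.QDM.Pairs
import Groth.Agent.ResGerbe.QDM.Slice
import Groth.Agent.ResGerbe.PointImage
import Groth.Agent.GitQuot.StkSlice.Cover

/-!
# Residual gerbes of quasi-DM stacks
-/

set_option autoImplicit false
set_option backward.isDefEq.respectTransparency false
set_option backward.isDefEq.respectTransparency.types false

universe u

open CategoryTheory CategoryTheory.Limits AlgebraicGeometry
open Groth.StkBase Groth.AlgStBasic Groth.StkSlice

noncomputable section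

namespace Groth.ResGerbe.QDM

variable {S : Scheme.{u}} {𝒳 : AlgSt.Cat S} {U : Over S}

/-- `u` lies under a quasi-finite point of a locally finite type chart over the stack. -/
def Good (x : FibCat.overCat U ⥤ᵇ 𝒳) (u : ↥U.left) : Prop :=
  ∃ (W : Over S) (w : FibCat.overCat W ⥤ᵇ 𝒳) (N : Over S) (L : FibCat.overCat N ⥤ᵇ FibCat.fp x w)
    (a : N ⟶ U) (b : N ⟶ W) (n : ↥N.left),
    AlgSt.RepByAlgSpWith (AlgSp.LocP @LocallyOfFiniteType) w ∧
    AlgSt.RepByAlgSpWith (AlgSp.LocP @Etale) L ∧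
    Nonempty (BasedFunctor.comp L (FibCat.fpFst x w) ≅ AlgSt.overMap a) ∧
    Nonempty (BasedFunctor.comp L (FibCat.fpSnd x w) ≅ AlgSt.overMap b) ∧
    LocallyOfFiniteType a.left ∧ a.left n = u ∧ FlatMor.fibreDimAt a.left n = 0

variable (h𝒳 : AlgSt.IsAlgStack Scheme.fppfPrecoverage 𝒳) (hq : AlgSt.IsQuasiDMOver 𝒳)
  {x : FibCat.overCat U ⥤ᵇ 𝒳} (hx : AlgSt.RepByAlgSpWith (AlgSp.LocP @Smooth) x)
include h𝒳 hq hx

theorem exists_good_nhd (u : ↥U.left) [LocallyOfFiniteType (U.left.fromSpecResidueField u)] :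
    ∃ O : U.left.Opens, u ∈ O ∧ ∀ v ∈ O, Good x v := by
  obtain ⟨R, c, L, hL, hLs, ⟨α⟩, ⟨β⟩, hsm, hlqf, hlft⟩ := exists_pair_chart h𝒳 hq hx
  let s : R.left ⟶ U.left := (c ≫ sqFst U).left
  let t : R.left ⟶ U.left := (c ≫ sqSnd U).left
  have : Smooth s := hsm
  have hX := h𝒳.isStack.1
  have hfp : FibCat.IsFibGrpd (FibCat.fp x x).p :=
    isFibGrpd_fp (isFibGrpd_overCat _) (isFibGrpd_overCat _) hX
  obtain ⟨r, hr⟩ := surjective_ofChart hfp hLs
    (AlgSt.Points.map (FibCat.fpLift (F := x) (G := x) (BasedFunctor.id _) (BasedFunctor.id _) (Iso.refl _)) (AlgSt.Points.ofChart (BasedFunctor.id _) u))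
  have hrs : s r = u := by
    refine (bijective_ofChart_id (T := U)).1 ?_
    show AlgSt.Points.ofChart _ ((c ≫ sqFst U).left r) = _
    rw [← map_overMap_ofChart, ← map_eq_of_iso α, map_comp, ← ofChart_eq_map, hr, ← map_comp]
    exact map_id _
  have hrt : t r = u := by
    refine (bijective_ofChart_id (T := U)).1 ?_
    show AlgSt.Points.ofChart _ ((c ≫ sqSnd U).left r) = _
    rw [← map_overMap_ofChart, ← map_eq_of_iso β, map_comp, ← ofChart_eq_map, hr, ← map_comp]
    exact map_id _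
  subst hrs
  obtain ⟨V, hV, l, u', q, -, hq₁, hq₂, hcm, hdim⟩ :=
    exists_slice s t r (Groth.StkSlice.isCMAt_of_smooth s r) hrt fun y hy hy' => by
      have : LocallyQuasiFinite c.left := hlqf
      have : LocallyOfFiniteType (c.left ≫ pullback.fst U.hom U.hom) :=
        inferInstanceAs (LocallyOfFiniteType s)
      have : LocallyOfFiniteType (U.left.fromSpecResidueField
          ((c.left ≫ pullback.fst U.hom U.hom) y)) := by
        rw [show (c.left ≫ pullback.fst U.hom U.hom) y = s r from hy]; infer_instance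
      exact isClosed_asFiber_loop c.left y (hy'.trans hy.symm)
  let sl := Groth.GrpdSlice.slice hV l
  have : IsImmersion sl := Groth.GrpdSlice.isImmersion_slice hV l
  have : LocallyOfFinitePresentation sl := Groth.GrpdSlice.lfp_slice hV l
  let W : Over S := Over.mk (sl ≫ U.hom)
  let i : W ⟶ U := Over.homMk sl rfl
  obtain ⟨P, pW, pR, L', hpb, ⟨α'⟩, ⟨β'⟩, hL'⟩ := exists_chart_baseChange α β i
  let k : P.left ⟶ U.left := (pR ≫ c ≫ sqFst U).left
  have : LocallyOfFinitePresentation pR.left := MorphismProperty.of_isPullback hpb ‹_›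
  have hk : LocallyOfFinitePresentation k :=
    inferInstanceAs (LocallyOfFinitePresentation (pR.left ≫ s))
  let φ := hpb.isoPullback
  obtain ⟨z, hz⟩ : ∃ z, φ.hom z = q := ⟨φ.inv q, by
    rw [← Scheme.Hom.comp_apply, Iso.inv_hom_id]; rfl⟩
  have hkφ : φ.hom ≫ pullback.snd sl t ≫ s = k := by
    show _ = pR.left ≫ s
    rw [← Category.assoc]
    exact congrArg (· ≫ s) hpb.isoPullback_hom_snd
  let G : Set P.left := {p | MoreMor.IsCMAt k p ∧ k.QuasiFiniteAt p}
  have hG : IsOpen G := (Groth.CMMor.isOpen_isCMAt k).inter k.isOpen_quasiFiniteAt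
  have hzG : z ∈ G := by
    constructor
    · have h := (Groth.CMMor.isCMAt_openImmersion_comp φ.hom (pullback.snd sl t ≫ s) z).2
        ((Groth.Flatmor4.isCMAt_iff _ _).2 (hz.symm ▸ hcm))
      rwa [hkφ] at h
    · rw [Scheme.Hom.quasiFiniteAt_iff_isOpen_singleton_asFiber,
        ← Groth.AlgSpBasic.fibreDimAt_zero_iff_isOpen, ← hkφ,
        Groth.FibreDim.fibreDimAt_openImmersion_comp, hz]
      exact hdim
  let Gop : P.left.Opens := ⟨G, hG⟩
  have : LocallyOfFinitePresentation (Gop.ι ≫ k) := inferInstance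
  have : Flat (Gop.ι ≫ k) := Groth.GrpdSlice.flat_of_forall_isCMAt _ fun p =>
    (Groth.Flatmor4.isCMAt_iff _ _).1
      ((Groth.CMMor.isCMAt_openImmersion_comp Gop.ι k p).2 p.2.1)
  refine ⟨⟨Set.range (Gop.ι ≫ k), (Gop.ι ≫ k).isOpenMap.isOpen_range⟩, ⟨⟨z, hzG⟩, ?_⟩, ?_⟩
  · show k z = s r
    rw [← hkφ, Scheme.Hom.comp_apply, hz, Scheme.Hom.comp_apply]
    exact congrArg s hq₂
  · rintro v ⟨p, rfl⟩
    refine ⟨W, _, P, L', pR ≫ c ≫ sqFst U, pW, p.1,
      Groth.ResGerbe.repWith_comp_smooth (P := @LocallyOfFiniteType)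
        (fun _ _ f (_ : Smooth f) => inferInstance) i (inferInstanceAs (LocallyOfFiniteType sl)) hx,
      hL' _ hL, ⟨α'⟩, ⟨β'⟩, inferInstanceAs (LocallyOfFiniteType k), rfl, ?_⟩
    rw [Groth.AlgSpBasic.fibreDimAt_zero_iff_isOpen,
      ← Scheme.Hom.quasiFiniteAt_iff_isOpen_singleton_asFiber]
    exact p.2.2

theorem good_of_quasiDM (u : ↥U.left) : Good x u := by
  let O : U.left.Opens := ⨆ (O : U.left.Opens) (_ : ∀ v ∈ O, Good x v), O
  obtain ⟨⟨v, hv⟩, hvu⟩ := Groth.StkSlice.surjective_of_finiteTypePoints O.ι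
    O.ι.isOpenEmbedding.isOpenMap (fun v hv => by
      obtain ⟨O', hvO, hO'⟩ := exists_good_nhd h𝒳 hq hx v
      exact ⟨⟨v, TopologicalSpace.Opens.mem_iSup.2 ⟨O', TopologicalSpace.Opens.mem_iSup.2 ⟨hO', hvO⟩⟩⟩,
        rfl⟩) u
  subst hvu
  obtain ⟨O', hv'⟩ := TopologicalSpace.Opens.mem_iSup.1 hv
  obtain ⟨hO', hvO⟩ := TopologicalSpace.Opens.mem_iSup.1 hv'
  exact hO' _ hvO

omit hq in
/-- A good point gives a field point with self fibre product locally of finite type. -/
theorem exists_point_lft {u : ↥U.left} (h : Good x u) :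
    ∃ (k : Type u) (_ : Field k) (a : Spec (CommRingCat.of k) ⟶ S)
      (z : FibCat.overCat (Over.mk a) ⥤ᵇ 𝒳),
      AlgSt.LocQ (AlgSp.LocP (S := S) @LocallyOfFiniteType) (FibCat.fpFst z z) ∧
      ∀ t : ↥(Over.mk a).left, AlgSt.Points.ofChart z t = AlgSt.Points.ofChart x u := by
  obtain ⟨W, w, N, L, a, b, n, hw, hL, ⟨α⟩, ⟨β⟩, ha, rfl, hdim⟩ := h
  let v₀ : ↥W.left := b.left n
  let k : Type u := W.left.residueField v₀
  let aK : Spec (CommRingCat.of k) ⟶ S := W.left.fromSpecResidueField v₀ ≫ W.hom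
  let K : Over S := Over.mk aK
  let j : K ⟶ W := Over.homMk (W.left.fromSpecResidueField v₀) rfl
  let z : FibCat.overCat K ⥤ᵇ 𝒳 := BasedFunctor.comp (AlgSt.overMap j) w
  have hX := h𝒳.isStack.1
  refine ⟨k, inferInstance, aK, z, ?_, fun t => ?_⟩
  · obtain ⟨F, e, he⟩ := repWith_repByAlgSp1 hw K z
    obtain ⟨E, LE, hLE, hLEs⟩ := hasAtlas_of_repByAlgSp (P := @Etale)
      (show AlgSt.RepByAlgSp (FibCat.fp z w) from ⟨F, e, he⟩)
    obtain ⟨aE, ⟨αE⟩⟩ := exists_iso_overMap (BasedFunctor.comp LE (FibCat.fpFst z w))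
    obtain ⟨bE, ⟨βE⟩⟩ := exists_iso_overMap (BasedFunctor.comp LE (FibCat.fpSnd z w))
    have hfp : FibCat.IsFibGrpd (FibCat.fp z w).p :=
      isFibGrpd_fp (isFibGrpd_overCat _) (isFibGrpd_overCat _) hX
    have : LocallyOfFiniteType aE.left := left_prop_of_repWith_overMap (P := @LocallyOfFiniteType)
      (repWith_of_iso αE (repWith_comp' (isFibGrpd_overCat E) hfp stableBaseChange_locP stableComp_locP
        descendsAlongAtlas_locP (repWith_mono (fun _ _ f _ _ h => Groth.AlgSpBasic.locP_mono (P := @Etale)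
          (Q := @LocallyOfFiniteType) (fun _ _ g (hg : Etale g) => inferInstance) h) hLE) (repWith_fpFst _ _ hw)))
    have hopen : IsOpen (bE.left ⁻¹' {v₀}) := by
      rw [← Set.biUnion_of_singleton (bE.left ⁻¹' {v₀})]
      refine isOpen_biUnion fun e he => ?_
      have h₀ : FlatMor.fibreDimAt aE.left e = 0 :=
        (fibreDimAt_eq_of_same_image hLE hL αE α βE β h𝒳 e n he).trans hdim
      rw [Groth.AlgSpBasic.fibreDimAt_zero_iff_isOpen] at h₀
      have hu : Set.range (aE.left.fiberι (aE.left e)) = Set.univ := by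
        rw [Scheme.Hom.range_fiberι]
        exact Set.eq_univ_of_forall fun y =>
          Subsingleton.elim (α := ↥(Spec (CommRingCat.of k))) (aE.left y) (aE.left e)
      have hi : Topology.IsOpenEmbedding (aE.left.fiberι (aE.left e)) :=
        ⟨(aE.left.fiberι (aE.left e)).isEmbedding, by rw [hu]; exact isOpen_univ⟩
      have h₁ := hi.isOpenMap _ h₀
      rwa [Set.image_singleton, aE.left.fiberι_asFiber] at h₁
    obtain ⟨P, pK, pE, L₀, hpb, ⟨α₀⟩, -, hL₀⟩ := exists_chart_baseChange αE βE j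
    have : IsPreimmersion pE.left :=
      MorphismProperty.of_isPullback hpb (inferInstanceAs (IsPreimmersion (W.left.fromSpecResidueField v₀)))
    have hrange : Set.range pE.left = bE.left ⁻¹' {v₀} := by
      have : pE.left = hpb.isoPullback.hom ≫ pullback.snd j.left bE.left := hpb.isoPullback_hom_snd.symm
      rw [this, Scheme.Hom.comp_base, TopCat.coe_comp, Set.range_comp,
        (hpb.isoPullback.hom.surjective).range_eq, Set.image_univ, Scheme.Pullback.range_snd]
      show bE.left ⁻¹' Set.range (W.left.fromSpecResidueField v₀) = _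
      rw [Scheme.range_fromSpecResidueField]
    have : IsImmersion pE.left := ⟨hrange ▸ hopen.isLocallyClosed⟩
    have hlft : LocallyOfFiniteType (pE ≫ aE).left :=
      inferInstanceAs (LocallyOfFiniteType (pE.left ≫ aE.left))
    exact ⟨P, K, L₀, BasedFunctor.id _, pE ≫ aE, α₀,
      repWith_mono (fun _ _ f _ _ h => Groth.AlgSpBasic.locP_mono (P := @Etale) (Q := @Smooth)
        (fun _ _ g (hg : Etale g) => inferInstance) h) (hL₀ _ hLE),
      hL₀ _ hLEs, repWith_of_iso (nonempty_overMap_id_iso K).some (repWith_overMap (P := @Smooth) (𝟙 K)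
        (inferInstanceAs (Smooth (𝟙 K.left)))), locP_yon_of_left hlft⟩
  · have e : BasedFunctor.comp (AlgSt.overMap a) x ≅ BasedFunctor.comp (AlgSt.overMap b) w :=
      (whiskerRightIso α.symm x).trans
        ((whiskerLeftIso L (FibCat.fpIso x w)).trans (whiskerRightIso β w))
    rw [← ofChart_overMap a, ofChart_eq_of_iso e, ofChart_overMap, ofChart_overMap]
    congr 1
    exact Scheme.fromSpecResidueField_apply _ _

end Groth.ResGerbe.QDM
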