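import Groth.Agent.ResGerbe.QDM.Compare
import Groth.Agent.GitQuot.StkSlice.Chart

/-!
# Pair charts of quasi-DM stacks and their base changes
-/

set_option autoImplicit false
set_option backward.isDefEq.respectTransparency false
set_option backward.isDefEq.respectTransparency.types false

universe u

open CategoryTheory CategoryTheory.Limits AlgebraicGeometry
open Groth.StkBase Groth.AlgStBasic Groth.StkSlice

noncomputable section

namespace Groth.ResGerbe.QDM

variable {S : Scheme.{u}} {𝒳 : AlgSt.Cat S}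

/-- An étale chart of the pairs of a smooth chart, quasi-finite over the pairs of points. -/
theorem exists_pair_chart (h𝒳 : AlgSt.IsAlgStack Scheme.fppfPrecoverage 𝒳)
    (hq : AlgSt.IsQuasiDMOver 𝒳) {U : Over S} {x : FibCat.overCat U ⥤ᵇ 𝒳}
    (hx : AlgSt.RepByAlgSpWith (AlgSp.LocP @Smooth) x) :
    ∃ (R : Over S) (c : R ⟶ sq U) (L : FibCat.overCat R ⥤ᵇ FibCat.fp x x),
      AlgSt.RepByAlgSpWith (AlgSp.LocP @Etale) L ∧
      AlgSt.RepByAlgSpWith AlgSp.IsSurjectiveMor L ∧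
      Nonempty (BasedFunctor.comp L (FibCat.fpFst x x) ≅ AlgSt.overMap (c ≫ sqFst U)) ∧
      Nonempty (BasedFunctor.comp L (FibCat.fpSnd x x) ≅ AlgSt.overMap (c ≫ sqSnd U)) ∧
      Smooth (c ≫ sqFst U).left ∧ LocallyQuasiFinite c.left ∧ LocallyOfFiniteType c.left := by
  have hX := h𝒳.isStack.1
  obtain ⟨M', hM', -, ⟨β⟩⟩ := isEquivOver_symm (isEquivOver_sqFun x)
  have hΦ : AlgSt.RepByAlgSpWith (AlgSp.LocP (@LocallyQuasiFinite ⊓ @LocallyOfFiniteType))
      (BasedFunctor.comp (fpPost x x (FibCat.toSelf 𝒳)) M') :=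
    (repWith_postcomp_equiv _ hM').2 (repWith_fpPost (F := x) (G := x) hq)
  obtain ⟨F, e, he⟩ := repWith_repByAlgSp1 hx U x
  obtain ⟨R, L, hL, hLs⟩ := hasAtlas_of_repByAlgSp (P := @Etale)
    (show AlgSt.RepByAlgSp (FibCat.fp x x) from ⟨F, e, he⟩)
  have hfp : FibCat.IsFibGrpd (FibCat.fp x x).p :=
    isFibGrpd_fp (isFibGrpd_overCat _) (isFibGrpd_overCat _) hX
  obtain ⟨c, ⟨γ⟩⟩ := exists_iso_overMap
    (BasedFunctor.comp L (BasedFunctor.comp (fpPost x x (FibCat.toSelf 𝒳)) M'))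
  have hc : (@LocallyQuasiFinite ⊓ @LocallyOfFiniteType : MorphismProperty Scheme.{u}) c.left := by
    refine left_prop_of_repWith_overMap (repWith_of_iso γ
      (repWith_comp' (isFibGrpd_overCat R) hfp stableBaseChange_locP stableComp_locP
        descendsAlongAtlas_locP ?_ hΦ))
    refine repWith_mono (fun _ _ f _ _ h => Groth.AlgSpBasic.locP_mono (P := @Etale)
      (Q := @LocallyQuasiFinite ⊓ @LocallyOfFiniteType) (fun _ _ g (hg : Etale g) => ⟨Groth.DescentBase.locallyQuasiFinite_of_etale g, inferInstance⟩) h) hL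
  let κ : BasedFunctor.comp L (fpPost x x (FibCat.toSelf 𝒳)) ≅
      BasedFunctor.comp (AlgSt.overMap c) (sqFun x) :=
    (whiskerLeftIso (BasedFunctor.comp L (fpPost x x (FibCat.toSelf 𝒳))) β).symm.trans
      (whiskerRightIso γ (sqFun x))
  have α₁ : BasedFunctor.comp L (FibCat.fpFst x x) ≅ AlgSt.overMap (c ≫ sqFst U) :=
    (whiskerRightIso κ (FibCat.fpFst _ _)).trans (nonempty_overMap_comp_iso c (sqFst U)).some
  have α₂ : BasedFunctor.comp L (FibCat.fpSnd x x) ≅ AlgSt.overMap (c ≫ sqSnd U) :=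
    (whiskerRightIso κ (FibCat.fpSnd _ _)).trans (nonempty_overMap_comp_iso c (sqSnd U)).some
  refine ⟨R, c, L, hL, hLs, ⟨α₁⟩, ⟨α₂⟩, ?_, hc.1, hc.2⟩
  refine left_prop_of_repWith_overMap (P := @Smooth) (repWith_of_iso α₁
    (repWith_comp' (isFibGrpd_overCat R) hfp stableBaseChange_locP stableComp_locP
      descendsAlongAtlas_locP ?_ (repWith_fpFst _ _ hx)))
  exact repWith_mono (fun _ _ f _ _ h => Groth.AlgSpBasic.locP_mono (P := @Etale) (Q := @Smooth)
    (fun _ _ g (hg : Etale g) => inferInstance) h) hL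

/-- The base change of a chart of `y ×_𝒳 V` along `i : W ⟶ V`. -/
theorem exists_chart_baseChange {T V W R : Over S} {y : FibCat.overCat T ⥤ᵇ 𝒳}
    {x : FibCat.overCat V ⥤ᵇ 𝒳} {L : FibCat.overCat R ⥤ᵇ FibCat.fp y x}
    {a : R ⟶ T} (α : BasedFunctor.comp L (FibCat.fpFst y x) ≅ AlgSt.overMap a)
    {b : R ⟶ V} (β : BasedFunctor.comp L (FibCat.fpSnd y x) ≅ AlgSt.overMap b) (i : W ⟶ V) :
    ∃ (P : Over S) (pW : P ⟶ W) (pR : P ⟶ R)
      (L' : FibCat.overCat P ⥤ᵇ FibCat.fp y (BasedFunctor.comp (AlgSt.overMap i) x)),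
      IsPullback pW.left pR.left i.left b.left ∧
      Nonempty (BasedFunctor.comp L' (FibCat.fpFst _ _) ≅ AlgSt.overMap (pR ≫ a)) ∧
      Nonempty (BasedFunctor.comp L' (FibCat.fpSnd _ _) ≅ AlgSt.overMap pW) ∧
      ∀ (Q : MorphismProperty (AlgSp.Sp S)),
        AlgSt.RepByAlgSpWith Q L → AlgSt.RepByAlgSpWith Q L' := by
  let P : Over S := Over.mk (pullback.snd i.left b.left ≫ R.hom)
  let pW : P ⟶ W := Over.homMk (pullback.fst i.left b.left) (by
    show pullback.fst i.left b.left ≫ W.hom = pullback.snd i.left b.left ≫ R.hom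
    rw [← Over.w i, ← Over.w b, pullback.condition_assoc])
  let pR : P ⟶ R := Over.homMk (pullback.snd i.left b.left) rfl
  have hs : IsPullback pW.left pR.left i.left b.left := IsPullback.of_hasPullback _ _
  obtain ⟨Λ, hΛ, hΛ₁, hΛ₂⟩ := exists_equiv_fp_overMap'
    (IsPullback.of_map (Over.forget S) (Over.OverMorphism.ext hs.w) hs : IsPullback pW pR i b)
  let L₁ := BasedFunctor.comp L (fpSwap y x)
  let β₁ : BasedFunctor.comp L₁ (FibCat.fpFst x y) ≅ AlgSt.overMap b := β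
  let M := fpPre (BasedFunctor.id (FibCat.overCat W)) L₁ (AlgSt.overMap i) (FibCat.fpFst x y)
  let E := BasedFunctor.comp Λ (fpCongr (Iso.refl (AlgSt.overMap i)) β₁.symm)
  let G := BasedFunctor.comp (fpPaste (AlgSt.overMap i) x y) (fpSwap _ y)
  have hG : FibCat.IsEquivOver G := isEquivOver_comp (isEquivOver_fpPaste _ _ _) (isEquivOver_fpSwap _ _)
  let L' := BasedFunctor.comp (BasedFunctor.comp E M) G
  refine ⟨P, pW, pR, L', hs, ⟨?_⟩, ⟨eqToIso hΛ₁⟩, fun Q hQ => ?_⟩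
  · exact ((eqToIso (congrArg (fun H => BasedFunctor.comp H (BasedFunctor.comp L (FibCat.fpFst y x))) hΛ₂)).trans
      (whiskerLeftIso (AlgSt.overMap pR) α)).trans (nonempty_overMap_comp_iso pR a).some
  · exact (repWith_postcomp_equiv _ hG).2
      ((repWith_precomp_equiv (isEquivOver_comp hΛ (isEquivOver_fpCongr _ _)) M).2
        (repWith_fpPre_id_left L₁ _ _ ((repWith_postcomp_equiv L (isEquivOver_fpSwap y x)).2 hQ)))

end Groth.ResGerbe.QDM
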