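import Groth.Agent.StkBase.FibProd
import Groth.Prelude.Def_AlgSt3

/-!
# Sections of base changes along points of a fibre product
-/

set_option autoImplicit false
set_option backward.isDefEq.respectTransparency false
set_option backward.isDefEq.respectTransparency.types false

universe u

open CategoryTheory CategoryTheory.Limits AlgebraicGeometry
open Groth.StkBase

noncomputable section

namespace Groth.ResGerbe.QDM

variable {S : Scheme.{u}} {𝒳 𝒯 𝒲 𝒩 𝒵 : AlgSt.Cat S}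
variable {y : 𝒯 ⥤ᵇ 𝒳} {w : 𝒲 ⥤ᵇ 𝒳}

/-- The section of `w` pulled back along a point of its source. -/
def diagSec (s : 𝒵 ⥤ᵇ 𝒲) (w : 𝒲 ⥤ᵇ 𝒳) : 𝒵 ⥤ᵇ FibCat.fp (BasedFunctor.comp s w) w :=
  FibCat.fpLift (BasedFunctor.id 𝒵) s (Iso.refl _)

/-- The fibre product over `y` read at a point of it. -/
def shift (ψ : 𝒵 ⥤ᵇ FibCat.fp y w) :
    FibCat.fp (BasedFunctor.comp ψ (FibCat.fpFst y w)) (FibCat.fpFst y w) ⥤ᵇ
      FibCat.fp (BasedFunctor.comp (BasedFunctor.comp ψ (FibCat.fpSnd y w)) w) w :=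
  BasedFunctor.comp (fpPaste (BasedFunctor.comp ψ (FibCat.fpFst y w)) y w)
    (fpCongr (whiskerLeftIso ψ (FibCat.fpIso y w)) (Iso.refl w))

theorem isEquivOver_shift (ψ : 𝒵 ⥤ᵇ FibCat.fp y w) : FibCat.IsEquivOver (shift ψ) :=
  isEquivOver_comp (isEquivOver_fpPaste _ y w) (isEquivOver_fpCongr _ _)

theorem nonempty_diag_shift (ψ : 𝒵 ⥤ᵇ FibCat.fp y w) :
    Nonempty (BasedFunctor.comp
        (FibCat.fpLift (F := BasedFunctor.comp ψ (FibCat.fpFst y w)) (G := FibCat.fpFst y w)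
          (BasedFunctor.id 𝒵) ψ (Iso.refl _)) (shift ψ) ≅
      diagSec (BasedFunctor.comp ψ (FibCat.fpSnd y w)) w) :=
  ⟨fpIsoMk (Iso.refl _) (Iso.refl _) fun a => by
    show w.map ((FibCat.fpSnd y w).map (ψ.map (𝟙 a))) ≫ 𝟙 (w.obj (ψ.obj a).obj.snd) =
      ((ψ.obj a).obj.iso.inv ≫ (y.map (𝟙 (ψ.obj a).obj.fst) ≫ (ψ.obj a).obj.iso.hom) ≫
        𝟙 (w.obj (ψ.obj a).obj.snd)) ≫ w.map (𝟙 (ψ.obj a).obj.snd)
    simp only [CategoryTheory.Functor.map_id, Category.id_comp, Category.comp_id, Iso.inv_hom_id]⟩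

theorem nonempty_diagSec_congr {s s' : 𝒵 ⥤ᵇ 𝒲} (α : s ≅ s') :
    Nonempty (BasedFunctor.comp (diagSec s w) (fpCongr (whiskerRightIso α w) (Iso.refl w)) ≅
      diagSec s' w) :=
  ⟨fpIsoMk (Iso.refl _) α fun a => by
    show w.map (s'.map (𝟙 a)) ≫ 𝟙 (w.obj (s'.obj a)) =
      (w.map (isoApp α a).inv ≫ 𝟙 (w.obj (s.obj a)) ≫ 𝟙 (w.obj (s.obj a))) ≫ w.map (isoApp α a).hom
    simp only [CategoryTheory.Functor.map_id, Category.comp_id]
    rw [← Functor.map_comp, Iso.inv_hom_id, CategoryTheory.Functor.map_id]⟩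

/-- A chart of the fibre product, pulled back to a point of it. -/
def shiftChart (L : 𝒩 ⥤ᵇ FibCat.fp y w) (p : 𝒵 ⥤ᵇ 𝒩) {s : 𝒵 ⥤ᵇ 𝒲}
    (α : BasedFunctor.comp (BasedFunctor.comp p L) (FibCat.fpSnd y w) ≅ s) :
    FibCat.fp (BasedFunctor.comp (BasedFunctor.comp p L) (FibCat.fpFst y w))
      (BasedFunctor.comp L (FibCat.fpFst y w)) ⥤ᵇ FibCat.fp (BasedFunctor.comp s w) w :=
  BasedFunctor.comp
    (fpPre (BasedFunctor.id 𝒵) L (BasedFunctor.comp (BasedFunctor.comp p L) (FibCat.fpFst y w))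
      (FibCat.fpFst y w))
    (BasedFunctor.comp (shift (BasedFunctor.comp p L)) (fpCongr (whiskerRightIso α w) (Iso.refl w)))

theorem nonempty_shiftChart_section (L : 𝒩 ⥤ᵇ FibCat.fp y w) (p : 𝒵 ⥤ᵇ 𝒩) {s : 𝒵 ⥤ᵇ 𝒲}
    (α : BasedFunctor.comp (BasedFunctor.comp p L) (FibCat.fpSnd y w) ≅ s) :
    Nonempty (BasedFunctor.comp
        (FibCat.fpLift (F := BasedFunctor.comp (BasedFunctor.comp p L) (FibCat.fpFst y w))
          (G := BasedFunctor.comp L (FibCat.fpFst y w)) (BasedFunctor.id 𝒵) p (Iso.refl _))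
        (shiftChart L p α) ≅ diagSec s w) := by
  obtain ⟨β⟩ := nonempty_diag_shift (BasedFunctor.comp p L)
  obtain ⟨γ⟩ := nonempty_diagSec_congr (w := w) α
  exact ⟨(whiskerRightIso β (fpCongr (whiskerRightIso α w) (Iso.refl w))).trans γ⟩

end Groth.ResGerbe.QDM
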